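import Cfsg.Agent.SporadicStructure.U43Herm
import Cfsg.Agent.SporadicStructure.PsuMatch
import Cfsg.Agent.CTwoTab.Card
import Cfsg.Agent.HN.PC
import Cfsg.Agent.H414.EPV.AutPSU
import Cfsg.Agent.Lib.ListFast
import Cfsg.Agent.FastGrp
import Cfsg.Agent.Prune
set_option linter.all false

section
prune_inst 0x7f00000000000000000000000000000000000000000000000000000000000000000000000000000000000000000000000000000000000000000000000000000000000000000000000000000000000000003fffffffffffffffffffffffffffbeffbdffffffff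

-- part: TwoF/XL/U43/Mod
section
set_option linter.all false
open scoped Cfsg.Agent.FastGrp

/-!
# TwoF XL-U43: words in the permutation model of `U₄(3)` on the `280` isotropic points (helper87)

Letters: `0 1 2` the generators `A A⁻¹ B` of `M`, `3 4 5` the elements `x y c` of a line stabiliser `3⁴ : A₆`,
`6 .. 15` a polycyclic sequence of a Sylow `2`-subgroup of the automorphism group (`13 14 15` are outer).
-/

set_option autoImplicit false
set_option maxRecDepth 100000

namespace Cfsg.Agent.TwoF.XL.U43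

open Cfsg.Agent.SporadicStructure PermChain U43Perm FieldNine

/-- the permutations of the points -/
abbrev Pm : Type := Equiv.Perm (Fin 280)

/-- the model of `U₄(3)` -/
def M : Subgroup Pm := Subgroup.closure (Set.range σ)

def t3 : ℕ := 0x2cb48dc452da69fa66810e94c2929c59842e2692d5c7f6dbc1d2ee50b28d3044908868760ba2570622043c22615bad884c0090997e638604c82601222c202587385c0e26fc35143f5f1a12b1539155d0f56e808fcfb6a070b0a803c04a46505294ea2106322222c5812564fa363551c3b28290d4a9428118e3606aed3a712b0c20c9f2e02dd8de00b91547b468c878061521a00da0038de2ba3a039269b1c3f9a310271f4e67c2e82596b32b9190896560b532ce7b860f03e2a3bdaef46e2056ad30f144be4c53b1110287b399e4ea5ec2c46370d270cead0dc5c62154c2420e2b0a44d624f849dd8abc4030e244a67a891e163cb95dad879c0d406f41168daf802c52149407880907a23874d6830427886cc32341feab01b9dd6d97e21c3ef9222d15ed63825c5e39488d610c61eb3546196497a0a3313b05728c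
def t4 : ℕ := 0x788506c8f4281e04287387938508582d4a62500445aec13be47aaf6835594c52195e22dd389e842de883059ac664a097a382e278929828c29ca66183e848777a37cd42b80ad4aa8e1a03498941936082ab6b9a62f156ca495ada8a13c7ec4489003516272b073055c87d3eee241b590c267004f69d10161de907fac960f513054cea4400261a5f5d85952a14b1b0262c862102e6846bf4acbe63b4800861d384083b3b1f04a9b832e1d22e30b90fa8c2901a06a61106d1712372dc18734c9c0325e6b3e166d4849f8c064318c4104683a681e1c6e0a54e057130d960369ac61e97780dca8fe2ec390272511948ae3150d466b47e225b65a119d5db045fb3004cf6894e104417a8d78e82dbec78f33c966268a443815100081292aeb43bc96c0e0eba8f0c03786106ba25848d6f7730288e7f3a3d95c3e269095493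
def t5 : ℕ := 0x6429dd65e283ed3c06352f0a8256e0d0d6b7570b09112698f53a0e528245ce5822fce4b456b8a224a26155a2f7130221060520e4ec1180c596c6c65b64d0f810bfc3ca620305ec1b83c399c2421ba4e90255b35aa5c3d875504472428c65b11c14e6b025b84eed60815cba4276bf15ee02730c0e224fb5de0d4168ecce317342dbd156506074715abd5ce944da5402034425904894980902834925d1a8c48261388e4ca19228445a690a7f3f200fa7c71a88ca4506b4a1af16d13c28b1899e47ec72f96576be0b450dc360cb757029849988c0a0a94a1eef1e2a866752d14dbe6f7c8e142207d015b0c21bae45717819848e0b17ba1a0ba2b13418b320871dcc67944192283685d9e043c3f9d81f8016026ac59300a2f3181894664248498a7a7eaa588a08603c7c690d09d7aea6db305435380c9e9064523d0e00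
def t6 : ℕ := 0x8341e09058542e11098040605038944e21118b45e2915864361d0f7c3e5f4fb7e3f5fcff7bb95cce3723a5d4e77437dc0e1713c5e4ef783d5ecf37a3add8ed7735db0d96d36db8dd6f3598ac663b2192ca65b3188ce67b41a2d269b51aacd6130d80c15f2fd58ad552ad60b1572bd4ca7542a570b95b2dd78bd5d2ed64b35a2d53c9f5028544a3522953a8b46225148f482351c854321d10974c2552c9b4e26534914924d287d3f1fd00814120d087c359b0da6e379c0e272351d0ea763b9e0f27a3d9ccd0693319cc86529950aa562b960b25a29170ba5e2f980c2623196ca0512713c984d1d8f07a3e1f90082421d1108a4623920924a2590c70391b0dc6835160b4542b140a46433180c45c2f1108c40211309c48250e0743c1f0a054241308044341b0c0642c170502c10090703c180d020140c07018080200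
def t7 : ℕ := 0x4622d14894823d1c8d4421d0c854c25d2c954e26d34994a24d2491401fcfc7d4220d04813e2b558ab552c560af572a550a7532e570b75b2f578bb5d2d568b359285409f4f29548a351274dc6d361ace471381bcd4773b1d4e87b3d1e4f073341a4ce6632991cce57238dd4e97439dc4e17037de4f1783bdecf57a3cddced763adb4d96c35dbcdd6e36dad0783416090b8542611038140601138944621178b456290f8743618fb7d3e5f0ff7f3f5f8f76431d8cc56632d94c962345a0cf67355a8d36933584c360b017ebe1f0f4783b21104803f1d11c8c452212c94492410c70391b8d86a342b154a8532d164b0572917cbc5d2e18cc4613016ca051279389a4c160b4562a148a06433188c05e2e118884220138984a240f8783a1c0d86830190b05c2a140904c20110703c180d0502c1009020140c07000040403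
def t8 : ℕ := 0x472351e904d265369c41211028345225168c4b2552e983f200fa7f432210a874925122933e2bd5cb058aed74bc5ea8d4aa2522ad54ac56add6cb85ca7d429e5029d52a6542cd6ab25a274e072379c4f27b3c1e8d26c371acda753b9d0ec68351ccca643319dd0e774ba9e8f37abd9b8de6db75c8e372b99e0ef78bc9b0da6bb65c0e26fb85d8ee75bb5ad098442a17158a45a2efd7fbf1fd058241a0f118844a26f97dbe1f50181c02050d87c321cf76533192cb69b55a4d461b1990c563b3da2ce6830988cd5faf980c1201087e412492c904a1c8f07c3b1e9148e44230e074431a8d06c372c168ae593098cc06228950ac532a974be5c2f140a45b269309c4f168cc4a241309c5832108804423148a0542b178b860310e87c381e0d0501009058283615060341e0e0b05c3218080442612030100e05018080200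
def t9 : ℕ := 0x5c2c178ac5babd76ab5429140b45b2b974aa5cac57aad53a8d3eb354a9542b5532893cb24ea65128d4aa6d168f4ba0110944227118904c269148e4b1f50a91409f90c92411fd0e93419f18ac9673498cca67b4d80c765b41a8c866345aac15f2fd88cd6130e0b1588c260f1789c2df90c803e20d168942a091488421ff0f81bedfd0e813e9fb0d80be5eeea79399ece777b8de6ec6c371c0e878391e8e978b95eaed6cb75c2eb6bb6dbeee6d379c4d63d9dce46e3d1d8e26d339e4ea70361e0e86f35998ca64399a8d2682012478452112c7c471a8fc903b22104943d230d06c371c8e074432f154c4592e14cc0572617cac632d174a8612c1349e4e28144b6520281c1a090885c08060602020160702824180782c26190a86c281a0f0704024170a03e1d108945e291189c622b11098602a190b0662d0100c0001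
def t10 : ℕ := 0x53aa14ca951a9144a55cad96eb84fa813ca159ad164b558ab95eb05eae976bc56aa956ac4e9f5007f3f215108743269389b4ca45289349205088341229188b44a39208f46a5930974a9f190c76331598cb6532588d16833d9cd56a34da4cd6130d82c05faf9fefc7ebfa1f0c86c3a090683c16070080c09f6f87cbea29168bc56211289c46110a85c25eeed763b9d6d96c369aee97439dd4dd6e379b6e170389bef1783bde4e57238dccf57a3cdecd63c1e4f47b3a1d4ec77399bce071391acd86d371a8d2683319cc865208fc84402512096491c8f4763e1e1188847228e074431a0d46e362e97cb85e2a158a65528184c66031160b4572c944b652269309c4f0a86c180d07838281a04024160a0804426120b05c3218030100e05190b042201108c662d128904c27178b86031148a0542b0e87c381e000040403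
def t11 : ℕ := 0x753a5d0e77b3d5e8f36f375b8db73395c8e3793c5e0ef6d365b0d771385c0df773b5d8eb6b2411e8e46a71369a4ca11068240a31168a44a612e964aa00fe7e3ea210e8642a512692489f08441200fc964a24920723e1e8f076472311488381d10c6e361a8d2170a84c222f168ac51fefe7ebf20f0682c12271288c41f6fa7cbe2070280c021f0e86c31eeb1582bd5cbd5e2ed74a55228d44ad562ad54b95c2dd6ca15027d3ca95429d4cb55a2cd649d2d164b05731988c26028958aa542997cbc5d2e140a45b279389a4c6632d94c96ab51a6d261b218ec662b45a0cf6730988cd60b017ebe391c4e06f3d9e8f278349b8da6c359dcec753a1a0d47333998ca64168cc4e26128905832118884220158a85228188c05e2e0f8783a1c0a05422100904c341b0b858301904820140b068301c0f0281c0806010000601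
def t12 : ℕ := 0x792e626988aa6976f4442a5c50344c11c6aa583a51f0a863ad6491523f906dd6c1f9f29f00bbd6d104ac5d38bd7b21d50e18122e0ce5562bdd08e84c35d8b349289f8816db6900fb5080cea5d22b3c9078691805656641b87ccb20964e23012084120c09861e0b788a5a2c9b5e3d50ca7704051907732b55ce746c221ced5a24d4aff42379ae7d7c27800f15c4492f144cae9e6855337e008a82b9156b175242170f772d528a37ea09b8d93fbe940023b1788cd0259edaa631514d8a6b1db288058380c44a200403424193a17088ce251e9a862149518c6c1e330845a390b84e220503c22163b97c8ed1249e5a661141558e6d1eb247e57378bc4c23058382017190ccd4c41d148582d669ccb643288e4d2c31c14184680d85434140f874c8be1a1303c1c5f9949a35270d8ccc01b93d8267028100e066b1f1ee9d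
def t13 : ℕ := 0x8b45e29158944e2111864361d0f8542e11098341e09058040605037e3f5fcff7c3e5f4fb7bbd5ecf37a3c5e4ef783add8ed773a5d4e774395cce37237dc0e17136db8dd6f35db0d96d359a4d36a3559ccf683459ac96532d98c56331d90c461b0980c15f2fd78bd5d2ed70b95b2dd64b35a2d560b1572bd58ad552ad4ca7542a544a3522953c9f502853a9b4e26534974c2552c914924d288f482351c8b4622514854321d10814120d087d3f1fd007c3c1e4f47b3a1d4ec77399bce071391acd86d371a8d2683319cc86530184c4632e174bc5f2d95cb0592d14ca8552b148a2502713c984d24124944b221148c47218fc8041210ec783d1f0e872381b0dc6835198c86031170bc5a2c150ac50291309c48251108c40210e0743c1f0d86830190b05c2a140904c20110703c180d0502c1009020140c07000040403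
def t14 : ℕ := 0x582c55eae562b556aa53a9952a85e2f576ba5c2e56eb659ac96ab451a894aa44fa7942a04ea3d208e46a2d188a44a190a8843a6d389a4ca5d30964aa49229449a090284419f8fa803f9f0e06f391c4d86b371b4d4793c1ecf4753a1dcec73349a0cc6732992150b84c220d0782c12030081c0a2d178ac52251388c421b0c87c39fafc7fbf9f2f87dbe9eee9753a1cee573391c6e06fb89c2f57b3d1e6f1793c1deec75bb9dadc6db79bad86bb69b2d66532598cb6331590c76234da4d56a33d9cd16833586c2603057ebe2c15cb4592a14cac5529184c06331174b85f2f16ca2502713c9a4c200fc84411e0ec7c3d1d124904b2511488472310c72381b0dc6a34168b0542b148a06632180c45e2e1309c4a241108c42200e8703e1e0a850241308840361a0c0642e160703c1a0c0502c1208028100e06008000602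
def t15 : ℕ := 0x57ab962b055aa95aac54a9d50a65dae97abc5bad972b85aacd68b252a8d48a250a7d409e4ea391a9047a29128c45a210c8742a69329c4da592a984ba51249348a11048340a00fc7f3e9f0e470389bcdc6c369acd47b3c9e8f0773a9d8e873349a0ca643399a130885c2a0b0483c1a0701814022b148bc5a231089c4a1f0d87431fefd7f3f1f6f97d3e1eee873ba9d2e471b99cae270385bef479bd9eaf077bc9e2ee763b5d6de6e375b6da6c365aed66632996c9643198ec562355a6d4693459ed06733586c25faf982c02d160b2572b150aa532918cc2623017cba5e2e16ca250269309e4e21100823f1f0f07a3b1d12c924a2411c8a462210c72381a8d06e36168b05228158a86632178b86230128904e261088046220f8743c1c0a850221009848361a0b8583218068301e0e04820160a038140c04018040400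
def defs : List (List ℕ) := [[0],
  [1],
  [2],
  [1, 2, 1, 1, 2, 1, 2, 1, 2, 0, 2, 0, 0],
  [2, 1, 1, 2, 1, 2, 1, 2, 1, 2, 0, 0, 0, 2, 1, 2, 0, 0, 2, 0],
  [1, 2, 1, 1, 2, 0, 0, 0, 2, 0, 2, 1, 1, 2, 0, 2, 0, 0, 2, 0, 0, 2, 0],
  [2, 1, 2, 0, 2, 0, 0, 0, 2, 1, 2, 1, 1, 1, 2, 0, 0, 2, 1, 2, 1, 2, 0],
  [0, 2, 0, 0, 2, 0, 0, 2, 1, 1, 1, 2, 0, 0, 2, 0, 0, 2, 0],
  [2, 1, 2, 1, 1, 2, 1, 2, 0, 2, 0, 2, 1, 2, 1, 2, 0, 2],
  [2, 1, 2, 1, 1, 2, 0, 0, 0, 2, 1, 2, 1, 1, 2, 0, 0, 0],
  [0, 0, 2, 1, 1, 2, 1, 2, 0, 2, 0, 0, 2, 1, 1],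
  [1, 1, 2, 1, 2, 1, 2, 0, 0, 2, 1, 1, 2, 0, 2, 1, 1, 2],
  [2, 0, 0, 2, 0, 0, 0, 2, 1, 1, 1, 2, 1, 1, 2],
  [4, 3, 4, 3],
  [3],
  [4]]

def tb0 : List ℕ := [tabA, tabA', tabB, t14, t15]
def tabs : List ℕ := [tabA, tabA', tabB, t3, t4, t5, t6, t7, t8, t9, t10, t11, t12, t13, t14, t15]

theorem chk14 : permCheck 9 280 t14 t14 = true := by decide +kernel
theorem chk15 : permCheck 9 280 t15 t15 = true := by decide +kernel

/-- the basic letters -/
def B0 (n : ℕ) : Pm :=
  if n = 0 then gen 0 else if n = 1 then (gen 0)⁻¹ else if n = 2 then gen 1 else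
    if n = 3 then mkPerm 9 280 t14 t14 chk14 else mkPerm 9 280 t15 t15 chk15

theorem B0_spec {n : ℕ} (hn : n < 5) (x : Fin 280) : (B0 n x : ℕ) = look 9 (tb0.getD n 0) x := by
  interval_cases n <;> rfl

theorem B0_mem {n : ℕ} (hn : n < 3) : B0 n ∈ M := by
  have h0 : gen 0 ∈ M := gen_mem 0 (Or.inl rfl)
  have h1 : gen 1 ∈ M := gen_mem 1 (Or.inr rfl)
  interval_cases n
  · exact h0
  · exact inv_mem h0
  · exact h1

/-- the letters -/
def L (n : ℕ) : Pm := if n < 16 then ((defs.getD n []).map B0).prod else 1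

theorem chkL : allBelow (fun n => (defs.getD n []).all (fun s => Nat.blt s 5) &&
    wordCheck 9 280 tb0 (defs.getD n []) (tabs.getD n 0)) 16 = true := by decide +kernel

theorem chkI : allBelow (fun n => (defs.getD n []).all fun s => Nat.blt s 3) 13 = true := by decide +kernel

theorem L_spec {n : ℕ} (hn : n < 16) (x : Fin 280) : (L n x : ℕ) = look 9 (tabs.getD n 0) x := by
  have h := allBelow_spec _ _ chkL n hn
  rw [Bool.and_eq_true, List.all_eq_true] at h
  rw [L, if_pos hn]
  exact wordCheck_spec h.2 B0 (fun s hs => B0_spec (Nat.blt_eq.mp (h.1 s hs))) x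

theorem L_mem {n : ℕ} (hn : n < 13) : L n ∈ M := by
  have h := allBelow_spec _ _ chkI n hn
  rw [List.all_eq_true] at h
  rw [L, if_pos (by omega)]
  refine Subgroup.list_prod_mem _ fun g hg => ?_
  obtain ⟨s, hs, rfl⟩ := List.mem_map.1 hg
  exact B0_mem (Nat.blt_eq.mp (h s hs))

/-- the image of a point under a word; letters from `c` on are ignored -/
def ev (c : ℕ) : List ℕ → ℕ → ℕ
  | [], x => x
  | s :: l, x => force (ev c l x) fun y => bif Nat.blt s c then look 9 (tabs.getD s 0) y else y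

/-- the permutation of a word -/
def W (l : List ℕ) : Pm := (l.map L).prod

/-- the inner letters -/
def LM (n : ℕ) : M := if h : n < 13 then ⟨L n, L_mem h⟩ else 1

/-- the element of `M` of a word -/
def Wm (l : List ℕ) : M := (l.map LM).prod

theorem W_nil : W [] = 1 := rfl
theorem W_cons (s : ℕ) (l : List ℕ) : W (s :: l) = L s * W l := rfl
theorem W_append (l l' : List ℕ) : W (l ++ l') = W l * W l' := by rw [W, List.map_append, List.prod_append]; rfl
theorem W_single (s : ℕ) : W [s] = L s := mul_one _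
theorem Wm_nil : Wm [] = 1 := rfl
theorem Wm_cons (s : ℕ) (l : List ℕ) : Wm (s :: l) = LM s * Wm l := rfl
theorem Wm_append (l l' : List ℕ) : Wm (l ++ l') = Wm l * Wm l' := by
  rw [Wm, List.map_append, List.prod_append]; rfl

theorem W_spec (l : List ℕ) (x : Fin 280) : (W l x : ℕ) = ev 16 l x := by
  induction l with
  | nil => rfl
  | cons s l ih =>
    rw [W_cons, Equiv.Perm.mul_apply, ev, force_eq, ← ih]
    by_cases h : s < 16
    · rw [Nat.blt_eq.mpr h, L_spec h]; rfl
    · rw [L, if_neg h, Bool.eq_false_iff.2 fun e => h (Nat.blt_eq.mp e)]; rfl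

theorem Wm_spec (l : List ℕ) (x : Fin 280) : ((Wm l : Pm) x : ℕ) = ev 13 l x := by
  induction l with
  | nil => rfl
  | cons s l ih =>
    rw [Wm_cons, Subgroup.coe_mul, Equiv.Perm.mul_apply, ev, force_eq, ← ih]
    by_cases h : s < 13
    · rw [Nat.blt_eq.mpr h, LM, dif_pos h]; exact L_spec (by omega) _
    · rw [LM, dif_neg h, Bool.eq_false_iff.2 fun e => h (Nat.blt_eq.mp e)]; rfl

theorem coe_Wm {l : List ℕ} (h : ∀ s ∈ l, s < 13) : (Wm l : Pm) = W l := by
  induction l with
  | nil => rfl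
  | cons s l ih =>
    rw [Wm_cons, Subgroup.coe_mul, W_cons, ih fun t ht => h t (List.mem_cons_of_mem _ ht), LM,
      dif_pos (h s List.mem_cons_self)]

/-- equality of two words on all points -/
def eqF (l l' : List ℕ) : Bool := allBelow (fun x => Nat.beq (ev 16 l x) (ev 16 l' x)) 280

theorem W_eq {l l' : List ℕ} (h : eqF l l' = true) : W l = W l' :=
  Equiv.ext fun x => Fin.ext (by rw [W_spec, W_spec]; exact Nat.eq_of_beq_eq_true (allBelow_spec _ _ h x x.2))

/-! ### the identification, the base `10, 88, 0` -/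

theorem iso {F : Type} [Field F] [Fintype F] (hF : Fintype.card F = 3 ^ 2) : Nonempty (PSU 4 F 3 ≃* M) := by
  obtain ⟨e⟩ := PsuMatch.psu_iso_closure_of_match K9.card_K9' (by norm_num) U43Herm.P U43Herm.P_nonprop U43Herm.M σ
    U43Herm.act ((CTwoTab.card_psu_four_three K9.card_K9).le.trans card_ge)
  obtain ⟨e'⟩ := PsuMatch.psu_iso_of_card (F := F) (K := K9) (hF.trans K9.card_K9'.symm) 4 3
  exact ⟨e'.trans e⟩

theorem card_M : Nat.card M = 3265920 := by
  obtain ⟨e⟩ := iso K9.card_K9'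
  rw [← Nat.card_congr e.toEquiv, CTwoTab.card_psu_four_three K9.card_K9]

theorem base_triv {g : Pm} (hg : g ∈ M) (h1 : g b1 = b1) (h2 : g b2 = b2) (h3 : g b3 = b3) : g = 1 := by
  set S1 : Subgroup Pm := M ⊓ MulAction.stabilizer Pm b1 with hS1
  set S2 : Subgroup Pm := S1 ⊓ MulAction.stabilizer Pm b2 with hS2
  set S3 : Subgroup Pm := S2 ⊓ MulAction.stabilizer Pm b3 with hS3
  have k1 : K1 ≤ S1 := fun k hk => ⟨K1_le hk, K1_fix k hk⟩
  have k2 : K2 ≤ S2 := fun k hk => ⟨k1 (K2_le hk), K2_fix k hk⟩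
  have c0 : 280 * Nat.card S1 ≤ Nat.card M :=
    card_step_mask (w := 9) M b1 S1 inf_le_left (fun g hg => hg.2) [tabA, tabB] (by
      intro u hu
      simp only [List.mem_cons, List.not_mem_nil, or_false] at hu
      rcases hu with rfl | rfl
      · exact ⟨gen 0, gen_mem 0 (Or.inl rfl), gen_spec 0 (Or.inl rfl)⟩
      · exact ⟨gen 1, gen_mem 1 (Or.inr rfl), gen_spec 1 (Or.inr rfl)⟩) 8 mask0 280 orb0 card0
  have c1 : 243 * Nat.card S2 ≤ Nat.card S1 :=
    card_step_mask (w := 9) S1 b2 S2 inf_le_left (fun g hg => hg.2) [tabT, tabR1, tabR2] (by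
      intro u hu
      simp only [List.mem_cons, List.not_mem_nil, or_false] at hu
      rcases hu with rfl | rfl | rfl
      · exact ⟨t, k1 (Subgroup.subset_closure (by simp)), t_spec⟩
      · exact ⟨r1, k1 (Subgroup.subset_closure (by simp)), r1_spec⟩
      · exact ⟨r2, k1 (Subgroup.subset_closure (by simp)), r2_spec⟩) 5 mask1 243 orb1 card1
  have c2 : 48 * Nat.card S3 ≤ Nat.card S2 :=
    card_step_mask (w := 9) S2 b3 S3 inf_le_left (fun g hg => hg.2) [tabR1, tabR2] (by
      intro u hu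
      simp only [List.mem_cons, List.not_mem_nil, or_false] at hu
      rcases hu with rfl | rfl
      · exact ⟨r1, k2 (Subgroup.subset_closure (by simp)), r1_spec⟩
      · exact ⟨r2, k2 (Subgroup.subset_closure (by simp)), r2_spec⟩) 4 mask2 48 orb2 card2
  have c3 := card_M
  have h : S3 = ⊥ := Subgroup.eq_bot_of_card_le _ (by omega)
  have : g ∈ S3 := ⟨⟨⟨hg, h1⟩, h2⟩, h3⟩
  rwa [h, Subgroup.mem_bot] at this

theorem eq_of_base {g h : M} (h1 : (g : Pm) b1 = (h : Pm) b1) (h2 : (g : Pm) b2 = (h : Pm) b2)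
    (h3 : (g : Pm) b3 = (h : Pm) b3) : g = h := by
  have k : ∀ b, (g : Pm) b = (h : Pm) b → ((h⁻¹ * g : M) : Pm) b = b := fun b e => by
    rw [Subgroup.coe_mul, Equiv.Perm.mul_apply, e, Subgroup.coe_inv, Equiv.Perm.inv_eq_iff_eq]
  exact (inv_mul_eq_one.1 (Subtype.ext (base_triv (h⁻¹ * g).2 (k _ h1) (k _ h2) (k _ h3)))).symm

/-- equality of two inner words -/
def eqB (l l' : List ℕ) : Bool :=
  Nat.beq (ev 13 l 10) (ev 13 l' 10) && (Nat.beq (ev 13 l 88) (ev 13 l' 88) && Nat.beq (ev 13 l 0) (ev 13 l' 0))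

theorem eqB_iff {l l' : List ℕ} : eqB l l' = true ↔ Wm l = Wm l' := by
  rw [eqB, Bool.and_eq_true, Bool.and_eq_true, Nat.beq_eq, Nat.beq_eq, Nat.beq_eq]
  refine ⟨fun h => eq_of_base (Fin.ext ?_) (Fin.ext ?_) (Fin.ext ?_), fun h => ⟨?_, ?_, ?_⟩⟩
  · rw [Wm_spec, Wm_spec]; exact h.1
  · rw [Wm_spec, Wm_spec]; exact h.2.1
  · rw [Wm_spec, Wm_spec]; exact h.2.2
  · exact (Wm_spec l b1).symm.trans (h ▸ Wm_spec l' b1)
  · exact (Wm_spec l b2).symm.trans (h ▸ Wm_spec l' b2)
  · exact (Wm_spec l b3).symm.trans (h ▸ Wm_spec l' b3)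

theorem Wm_eq {l l' : List ℕ} (h : eqB l l' = true) : Wm l = Wm l' := eqB_iff.1 h

theorem Wm_ne {l l' : List ℕ} (h : eqB l l' = false) : Wm l ≠ Wm l' := fun e => by
  rw [eqB_iff.2 e] at h; exact Bool.noConfusion h

theorem coe_A : (Wm [0] : Pm) = σ 0 := by
  rw [coe_Wm (by simp), W_single]; exact mul_one _

theorem coe_B : (Wm [2] : Pm) = σ 1 := by
  rw [coe_Wm (by simp), W_single]; exact mul_one _

theorem eq_top_of_gens {H : Subgroup M} (h0 : Wm [0] ∈ H) (h2 : Wm [2] ∈ H) : H = ⊤ := by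
  have h : M ≤ H.map M.subtype := by
    refine (Subgroup.closure_le _).2 ?_
    rintro _ ⟨s, rfl⟩
    fin_cases s
    · exact ⟨_, h0, coe_A⟩
    · exact ⟨_, h2, coe_B⟩
  refine eq_top_iff.2 fun g _ => ?_
  obtain ⟨k, hk, e⟩ := h g.2
  exact (Subtype.ext e : k = g) ▸ hk

theorem chkFix : allBelow (fun x => !(Nat.beq (look 9 tabT x) x && (Nat.beq (look 9 tabR1 x) x &&
    Nat.beq (look 9 tabR2 x) x)) || Nat.beq x 10) 280 = true := by decide +kernel

theorem chkMask : allBelow (fun x => Nat.testBit mask0 x) 280 = true := by decide +kernel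

/-- the centraliser of `M` in the symmetric group is trivial -/
theorem cent_M {g : Pm} (h : ∀ s ∈ M, g * s = s * g) : g = 1 := by
  have k : ∀ s ∈ K1, s (g b1) = g b1 := fun s hs => by
    rw [← Equiv.Perm.mul_apply, ← h s (K1_le hs), Equiv.Perm.mul_apply, K1_fix s hs]
  have h1 : g b1 = b1 := by
    have e := allBelow_spec _ _ chkFix (g b1) (g b1).2
    rw [← t_spec, ← r1_spec, ← r2_spec, k t (Subgroup.subset_closure (by simp)),
      k r1 (Subgroup.subset_closure (by simp)), k r2 (Subgroup.subset_closure (by simp)), Nat.beq_refl] at e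
    exact Fin.ext (Nat.eq_of_beq_eq_true e)
  have h2 : MaskIn M b1 mask0 := by
    rw [← Nat.eq_of_beq_eq_true orb0]
    refine maskIn_grow M b1 _ (fun u hu => ?_) _ _ (maskIn_single M b1)
    simp only [List.mem_cons, List.not_mem_nil, or_false] at hu
    rcases hu with rfl | rfl
    · exact ⟨gen 0, gen_mem 0 (Or.inl rfl), gen_spec 0 (Or.inl rfl)⟩
    · exact ⟨gen 1, gen_mem 1 (Or.inr rfl), gen_spec 1 (Or.inr rfl)⟩
  refine Equiv.ext fun x => ?_
  obtain ⟨_, s, hs, e⟩ := h2 x (allBelow_spec _ _ chkMask x x.2)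
  have e' : s b1 = x := e
  rw [← e', ← Equiv.Perm.mul_apply, h s hs, Equiv.Perm.mul_apply, h1]
  rfl

end Cfsg.Agent.TwoF.XL.U43

private theorem dce_89399e553b5d : _root_.True := by
  try have : _root_.True := by simp only [_root_.Cfsg.Agent.TwoF.XL.U43.LM.eq_1]
  try have : _root_.True := by simp only [_root_.Cfsg.Agent.TwoF.XL.U43.W.eq_1]
  try have : _root_.True := by simp only [_root_.Cfsg.Agent.TwoF.XL.U43.ev.eq_2]
  try have : _root_.True := by simp only [_root_.Cfsg.Agent.TwoF.XL.U43.eqB.eq_1]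
  try have : _root_.True := by simp only [_root_.Cfsg.Agent.TwoF.XL.U43.ev.eq_1]
  try have : _root_.True := by simp only [_root_.Cfsg.Agent.TwoF.XL.U43.Wm.eq_1]
  try have : _root_.True := by simp only [_root_.Cfsg.Agent.TwoF.XL.U43.L.eq_1]
  try have : _root_.True := by simp only [_root_.Cfsg.Agent.TwoF.XL.U43.ev.eq_def]
  exact _root_.True.intro
end

-- part: TwoF/XL/U43/Syl
section
set_option linter.all false
open scoped Cfsg.Agent.FastGrp

/-!
# TwoF XL-U43: a Sylow `2`-subgroup of `Aut U₄(3)` (helper87)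
-/

set_option autoImplicit false
set_option maxRecDepth 100000

namespace Cfsg.Agent.TwoF.XL.U43

open Cfsg.Agent.SporadicStructure PermChain U43Perm FieldNine Cfsg.Agent.HN.PC

/-- the polycyclic sequence -/
def sP (k : ℕ) : Pm := L (6 + k)

/-- the normal forms -/
def wd : ℕ → ℕ → List ℕ
  | 0, _ => []
  | k + 1, e => wd k e ++ bif Nat.testBit e k then [6 + k] else []

theorem wd_congr {k e f : ℕ} (h : ∀ i < k, Nat.testBit e i = Nat.testBit f i) : wd k e = wd k f := by
  induction k with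
  | zero => rfl
  | succ k ih => rw [wd, wd, ih fun i hi => h i (by omega), h k (by omega)]

theorem wd_lt {k e s : ℕ} (h : s ∈ wd k e) : s < 6 + k := by
  induction k with
  | zero => exact absurd h List.not_mem_nil
  | succ k ih =>
    rw [wd, List.mem_append] at h
    rcases h with h | h
    · have := ih h; omega
    · cases hb : Nat.testBit e k <;> rw [hb] at h
      · exact absurd h List.not_mem_nil
      · have := List.mem_singleton.1 h; omega

theorem wd_mem (k e : ℕ) : W (wd k e) ∈ Pc sP k := by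
  induction k with
  | zero => exact one_mem _
  | succ k ih =>
    rw [wd, W_append]
    refine mul_mem (Pc_mono (Nat.le_succ k) ih) ?_
    cases Nat.testBit e k
    · exact one_mem _
    · show W [6 + k] ∈ _
      rw [W_single]; exact mem_Pc (s := sP) (Nat.lt_succ_self k)

def pcT : ℕ := 0x180200660881103805008010000020043088110240500801000000004308010024040080100000000000841a020060080100000000000081502c04008010000000000000000240500c010000000000000000000500801000000000000000000010080100000000000000000000000010000000000000000000000000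

private noncomputable def _root_.Cfsg.Agent.LsF.f58902b_0 : {f // @Cfsg.Agent.SporadicStructure.PermChain.allBelow = f} := ⟨_, by first | (delta Cfsg.Agent.SporadicStructure.PermChain.allBelow Cfsg.Agent.SporadicStructure.PermChain.allBelow._f Nat.brecOn.go Nat.brecOn; rewrite [Cfsg.Agent.LsF.and_eq]; (try delta Cfsg.Agent.SporadicStructure.PermChain.allBelow.match_1); (try delta Nat.casesOn); first | dsimp -zeta only | exact rfl) | exact rfl⟩
private noncomputable def _root_.Cfsg.Agent.LsF.f58902b_1 : {f // @Cfsg.Agent.SporadicStructure.PermChain.force = f} := ⟨_, by first | (delta Cfsg.Agent.SporadicStructure.PermChain.force; rewrite [Cfsg.Agent.LsF.nadd_pat]; (try delta Cfsg.Agent.SporadicStructure.PermChain.allBelow.match_1); (try delta Nat.casesOn); exact rfl) | exact rfl⟩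
private noncomputable def _root_.Cfsg.Agent.LsF.f58902b_2 : {f // @Cfsg.Agent.SporadicStructure.PermChain.look = f} := ⟨_, by first | (delta Cfsg.Agent.SporadicStructure.PermChain.look; rewrite [Cfsg.Agent.LsF.nmul_pat, Cfsg.Agent.LsF.nmod_pat, Cfsg.Agent.LsF.npow_pat, Cfsg.Agent.LsF.nshr_pat]; exact rfl) | exact rfl⟩
private noncomputable def _root_.Cfsg.Agent.LsF.f58902b_3 : {f // @Cfsg.Agent.TwoF.XL.U43.ev = f} := ⟨_, by first | (delta Cfsg.Agent.TwoF.XL.U43.ev List.brecOn List.brecOn.go Cfsg.Agent.TwoF.XL.U43.ev._f; rewrite [Cfsg.Agent.LsF.f58902b_1.2, Cfsg.Agent.LsF.f58902b_2.2, Cfsg.Agent.LsF.cond_eq, Cfsg.Agent.LsF.getD_eq]; (try delta Cfsg.Agent.TwoF.XL.U43.ev.match_1); (try delta List.casesOn); first | dsimp -zeta only | exact rfl) | exact rfl⟩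
private noncomputable def _root_.Cfsg.Agent.LsF.f58902b_4 : {f // @Cfsg.Agent.TwoF.XL.U43.eqF = f} := ⟨_, by first | (delta Cfsg.Agent.TwoF.XL.U43.eqF; rewrite [Cfsg.Agent.LsF.f58902b_0.2, Cfsg.Agent.LsF.f58902b_3.2]; exact rfl) | exact rfl⟩
private noncomputable def _root_.Cfsg.Agent.LsF.f58902b_5 : {f // @Cfsg.Agent.TwoF.XL.U43.wd = f} := ⟨_, by first | (delta Cfsg.Agent.TwoF.XL.U43.wd Nat.brecOn.go Nat.brecOn Cfsg.Agent.TwoF.XL.U43.wd._f; rewrite [Cfsg.Agent.LsF.nadd_pat, Cfsg.Agent.LsF.lappend_pat, Cfsg.Agent.LsF.cond_eq, Cfsg.Agent.LsF.testBit_eq]; (try delta Cfsg.Agent.TwoF.XL.U43.wd.match_1); (try delta Nat.casesOn); first | dsimp -zeta only | exact rfl) | exact rfl⟩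
theorem chkPc : allBelow (fun k => eqF [6 + k, 6 + k] (wd k (look 10 pcT (10 * k + k))) &&
    allBelow (fun i => eqF [6 + k, 6 + i] (wd k (look 10 pcT (10 * k + i)) ++ [6 + k])) k) 10 = true := by
  ((try (rewrite [Cfsg.Agent.LsF.f58902b_0.2, Cfsg.Agent.LsF.f58902b_4.2, Cfsg.Agent.LsF.f58902b_5.2, Cfsg.Agent.LsF.f58902b_2.2, Cfsg.Agent.LsF.nadd_pat, Cfsg.Agent.LsF.nmul_pat, Cfsg.Agent.LsF.lappend_pat, Cfsg.Agent.LsF.and_eq])); decide +kernel)

theorem step {k : ℕ} (hk : k < 10) : Step sP k := by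
  have h := allBelow_spec _ _ chkPc k hk
  rw [Bool.and_eq_true] at h
  refine ⟨?_, fun i hi => ?_⟩
  · have e := W_eq h.1
    rw [W_cons, W_single] at e
    exact (show sP k * sP k = _ from e) ▸ wd_mem _ _
  · have e := W_eq (allBelow_spec _ _ h.2 i hi)
    rw [W_cons, W_single, W_append, W_single] at e
    have : sP k * sP i * (sP k)⁻¹ = W (wd k (look 10 pcT (10 * k + i))) := by
      rw [mul_inv_eq_iff_eq_mul]; exact e
    exact this ▸ wd_mem _ _

theorem exists_wd {k : ℕ} (hk : k ≤ 10) {g : Pm} (hg : g ∈ Pc sP k) : ∃ e < 2 ^ k, g = W (wd k e) := by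
  induction k generalizing g with
  | zero => rw [Pc_zero, Subgroup.mem_bot] at hg; exact ⟨0, by norm_num, hg⟩
  | succ k ih =>
    rcases (step (by omega)).mem hg with h | h
    · obtain ⟨e, he, h⟩ := ih (by omega) h
      refine ⟨e, by rw [pow_succ]; omega, ?_⟩
      rw [wd, Nat.testBit_lt_two_pow he, h]
      exact congrArg W (List.append_nil _).symm
    · obtain ⟨e, he, h⟩ := ih (by omega) h
      refine ⟨2 ^ k + e, by rw [pow_succ]; omega, ?_⟩
      rw [wd, Nat.testBit_two_pow_add_eq, Nat.testBit_lt_two_pow he,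
        wd_congr (f := e) fun i hi => Nat.testBit_two_pow_add_gt hi e, W_append, ← h]
      show g = g * (sP k)⁻¹ * W [6 + k]
      rw [W_single]; exact (inv_mul_cancel_right g (sP k)).symm

/-- the elements of the Sylow subgroup -/
def el (e : ℕ) : Pm := W (wd 10 e)

theorem el_zero : el 0 = 1 := rfl

theorem el_mul (e f : ℕ) : ∃ g < 1024, el e * el f = el g :=
  exists_wd le_rfl (mul_mem (wd_mem 10 e) (wd_mem 10 f))

/-- the part of the normal form outside `M` -/
def top (t : ℕ) : List ℕ := (bif Nat.testBit t 0 then [13] else []) ++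
  ((bif Nat.testBit t 1 then [14] else []) ++ bif Nat.testBit t 2 then [15] else [])

theorem el_eq (e : ℕ) : el e = (Wm (wd 7 e) : Pm) * W (top (e / 128)) := by
  have h : ∀ i, Nat.testBit (e / 128) i = Nat.testBit e (i + 7) := fun i => Nat.testBit_div_two_pow (n := 7) e i
  rw [coe_Wm fun s hs => wd_lt hs, ← W_append, top, h, h, h, el, wd, wd, wd, List.append_assoc, List.append_assoc]

theorem el_low {e : ℕ} (h : e < 128) : el e = (Wm (wd 7 e) : Pm) := by
  rw [el_eq, Nat.div_eq_of_lt h]; exact mul_one _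

/-! ### the base `125, 4` -/

/-- the images of the base -/
def cde (l : List ℕ) : ℕ := 280 * ev 16 l 125 + ev 16 l 4

theorem cde_eq {l l' : List ℕ} (h : W l = W l') : cde l = cde l' := by
  have h1 := (W_spec l 125).symm.trans (h ▸ W_spec l' 125)
  have h2 := (W_spec l 4).symm.trans (h ▸ W_spec l' 4)
  rw [cde, cde]
  exact congrArg₂ (fun a b => 280 * a + b) h1 h2

/-- the values of `f` below `n` are distinct and not in the mask -/
def dst (f : ℕ → ℕ) : ℕ → ℕ → Bool
  | 0, _ => true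
  | n + 1, m => force (f n) fun c => !(Nat.testBit m c) && force (Nat.lor m (Nat.shiftLeft 1 c)) (dst f n)

theorem dst_spec (f : ℕ → ℕ) : ∀ n m, dst f n m = true →
    (∀ i < n, Nat.testBit m (f i) = false) ∧ ∀ i < n, ∀ j < n, f i = f j → i = j
  | 0, _, _ => ⟨fun _ h => absurd h (Nat.not_lt_zero _), fun _ h => absurd h (Nat.not_lt_zero _)⟩
  | n + 1, m, h => by
    rw [dst, force_eq, force_eq, Bool.and_eq_true, Bool.not_eq_true'] at h
    obtain ⟨h1, h2⟩ := dst_spec f n _ h.2
    have h3 : ∀ i < n, Nat.testBit m (f i) = false ∧ f i ≠ f n := fun i hi => by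
      have e : Nat.testBit (m ||| 1 <<< f n) (f i) = false := h1 i hi
      rw [Nat.testBit_or, Bool.or_eq_false_iff] at e
      refine ⟨e.1, fun e' => ?_⟩
      rw [e', Nat.testBit_shiftLeft] at e
      simp at e
    refine ⟨fun i hi => ?_, fun i hi j hj e => ?_⟩
    · rcases Nat.lt_succ_iff_lt_or_eq.1 hi with hi | rfl
      · exact (h3 i hi).1
      · exact h.1
    · rcases Nat.lt_succ_iff_lt_or_eq.1 hi with hi | rfl <;> rcases Nat.lt_succ_iff_lt_or_eq.1 hj with hj | rfl
      · exact h2 i hi j hj e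
      · exact absurd e (h3 i hi).2
      · exact absurd e.symm (h3 j hj).2
      · rfl

private noncomputable def _root_.Cfsg.Agent.LsF.f58902b_6 : {f // @Cfsg.Agent.TwoF.XL.U43.dst = f} := ⟨_, by first | (delta Cfsg.Agent.TwoF.XL.U43.dst Nat.brecOn.go Nat.brecOn Cfsg.Agent.TwoF.XL.U43.dst._f; rewrite [Cfsg.Agent.LsF.f58902b_1.2, Cfsg.Agent.LsF.and_eq, Cfsg.Agent.LsF.not_eq, Cfsg.Agent.LsF.testBit_eq]; (try delta Cfsg.Agent.TwoF.XL.U43.wd.match_1); (try delta Nat.casesOn); first | dsimp -zeta only | exact rfl) | exact rfl⟩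
private noncomputable def _root_.Cfsg.Agent.LsF.f58902b_7 : {f // @Cfsg.Agent.TwoF.XL.U43.cde = f} := ⟨_, by first | (delta Cfsg.Agent.TwoF.XL.U43.cde; rewrite [Cfsg.Agent.LsF.f58902b_3.2, Cfsg.Agent.LsF.nadd_pat, Cfsg.Agent.LsF.nmul_pat]; exact rfl) | exact rfl⟩
theorem chkDst : dst (fun e => cde (wd 10 e)) 1024 0 = true := by ((try (rewrite [Cfsg.Agent.LsF.f58902b_6.2, Cfsg.Agent.LsF.f58902b_7.2, Cfsg.Agent.LsF.f58902b_5.2])); decide +kernel)

theorem cde_inj {e f : ℕ} (he : e < 1024) (hf : f < 1024) (h : cde (wd 10 e) = cde (wd 10 f)) : e = f :=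
  (dst_spec _ _ _ chkDst).2 e he f hf h

theorem el_inj {e f : ℕ} (he : e < 1024) (hf : f < 1024) (h : el e = el f) : e = f := cde_inj he hf (cde_eq h)

/-- products are recognised on the base -/
theorem el_mul_eq {e f g : ℕ} (hg : g < 1024) (h : cde (wd 10 e ++ wd 10 f) = cde (wd 10 g)) : el e * el f = el g := by
  obtain ⟨g', hg', e'⟩ := el_mul e f
  rw [e', cde_inj hg' hg (((cde_eq ((W_append _ _).trans e')).symm).trans h)]

theorem card_P : Nat.card (Pc sP 10) = 1024 := by
  have : Function.Bijective fun e : Fin 1024 => (⟨el e, wd_mem 10 e⟩ : Pc sP 10) :=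
    ⟨fun e f h => Fin.ext (el_inj e.2 f.2 (congrArg Subtype.val h)), fun g => by
      obtain ⟨e, he, h⟩ := exists_wd le_rfl g.2
      exact ⟨⟨e, he⟩, Subtype.ext h.symm⟩⟩
  rw [← Nat.card_congr (Equiv.ofBijective _ this), Nat.card_eq_fintype_card, Fintype.card_fin]

/-! ### automorphisms -/

def nw : List (List ℕ × List ℕ) :=
  [([9, 10, 0], [7, 6, 3, 5, 11, 3, 0]), ([0, 4, 10, 6, 4, 7], [2]), ([11, 8, 0, 10, 8], [10, 4, 4, 0, 11, 0])]

theorem chkNw : allBelow (fun k => (eqF [13 + k, 0] ((nw.getD k ([], [])).1 ++ [13 + k]) &&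
    eqF [13 + k, 2] ((nw.getD k ([], [])).2 ++ [13 + k])) && ((nw.getD k ([], [])).1.all (fun s => Nat.blt s 13) &&
      (nw.getD k ([], [])).2.all fun s => Nat.blt s 13)) 3 = true := by ((try (rewrite [Cfsg.Agent.LsF.f58902b_0.2, Cfsg.Agent.LsF.f58902b_4.2, Cfsg.Agent.LsF.nadd_pat, Cfsg.Agent.LsF.lappend_pat, Cfsg.Agent.LsF.and_eq, Cfsg.Agent.LsF.all_eq, Cfsg.Agent.LsF.getD_eq])); decide +kernel)

theorem P_le : Pc sP 10 ≤ Subgroup.normalizer (M : Set Pm) := by
  refine (Subgroup.closure_le _).2 ?_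
  rintro _ ⟨k, hk, rfl⟩
  by_cases h7 : k < 7
  · exact Subgroup.le_normalizer (L_mem (by omega))
  have hk : k < 10 := hk
  obtain ⟨j, rfl⟩ : ∃ j, k = 7 + j := ⟨k - 7, by omega⟩
  have h := allBelow_spec _ _ chkNw j (by omega)
  simp only [Bool.and_eq_true, List.all_eq_true, Nat.blt_eq] at h
  have key : ∀ s w, eqF [13 + j, s] (w ++ [13 + j]) = true → (∀ t ∈ w, t < 13) →
      sP (7 + j) * L s * (sP (7 + j))⁻¹ ∈ M := fun s w h1 h2 => by
    have e := W_eq h1
    rw [W_cons, W_single, W_append, W_single, ← coe_Wm h2] at e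
    rw [sP, show 6 + (7 + j) = 13 + j by omega, e, mul_inv_cancel_right]
    exact (Wm w).2
  refine Subgroup.mem_normalizer_fintype (conj_closure ?_)
  rintro _ ⟨s, rfl⟩
  fin_cases s
  · have := key 0 _ h.1.1 h.2.1
    rwa [show L 0 = σ 0 from mul_one _] at this
  · have := key 2 _ h.1.2 h.2.2
    rwa [show L 2 = σ 1 from mul_one _] at this

/-- the automorphism `q` is induced by the permutation `g` -/
def Rp (q : MulAut M) (g : Pm) : Prop := ∀ s : M, (q s : Pm) = g * s * g⁻¹

theorem Rp.mul {q q' : MulAut M} {g g' : Pm} (h : Rp q g) (h' : Rp q' g') : Rp (q * q') (g * g') := fun s => by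
  rw [MulAut.mul_apply, h, h']; group

theorem Rp.one : Rp 1 1 := fun s => by simp

theorem Rp.conj (s : M) : Rp (MulAut.conj s) s := fun _ => rfl

theorem Rp.ext {q q' : MulAut M} {g : Pm} (h : Rp q g) (h' : Rp q' g) : q = q' :=
  MulEquiv.ext fun s => Subtype.ext ((h s).trans (h' s).symm)

theorem Rp.unique {q : MulAut M} {g g' : Pm} (h : Rp q g) (h' : Rp q g') : g = g' := by
  refine (inv_mul_eq_one.1 (cent_M fun s hs => ?_)).symm
  have e : g * s * g⁻¹ = g' * s * g'⁻¹ := (h ⟨s, hs⟩).symm.trans (h' ⟨s, hs⟩)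
  calc g'⁻¹ * g * s = g'⁻¹ * (g * s * g⁻¹) * g := by group
    _ = s * (g'⁻¹ * g) := by rw [e]; group

theorem card_aut : Nat.card (MulAut M) = 26127360 := by
  obtain ⟨e⟩ := iso K9.card_K9'
  rw [← Nat.card_congr (MulAut.congr e).toEquiv, H414.EPV.aut43 K9.card_K9']

/-- **every `2`-group of automorphisms is conjugate into the polycyclic group** -/
theorem syl {B : Subgroup (MulAut M)} (hB : IsPGroup 2 B) :
    ∃ α : MulAut M, ∀ b ∈ B, ∃ e < 1024, Rp (α * b * α⁻¹) (el e) := by
  let f : Pc sP 10 →* MulAut M := M.normalizerMonoidHom.comp (Subgroup.inclusion P_le)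
  have hf : ∀ g, Rp (f g) g := fun g s => rfl
  have hi : Function.Injective f := fun a b e => Subtype.ext ((hf a).unique (e ▸ hf b))
  have hc : Nat.card f.range = 2 ^ (Nat.card (MulAut M)).factorization 2 := by
    rw [← Nat.card_congr (MonoidHom.ofInjective hi).toEquiv, card_P, card_aut,
      show 26127360 = 2 ^ 10 * 25515 by norm_num, Nat.factorization_mul (by norm_num) (by norm_num),
      Finsupp.add_apply, Nat.Prime.factorization_pow Nat.prime_two, Finsupp.single_eq_same,
      Nat.factorization_eq_zero_of_not_dvd (by norm_num)]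
    norm_num
  obtain ⟨T, hT⟩ := hB.exists_le_sylow
  obtain ⟨α, hα⟩ := MulAction.exists_smul_eq (MulAut M) T (Sylow.ofCard f.range hc)
  refine ⟨α, fun b hb => ?_⟩
  have h : α * b * α⁻¹ ∈ f.range := by
    rw [← Sylow.coe_ofCard f.range hc, ← hα, Sylow.coe_subgroup_smul]
    exact Subgroup.smul_mem_pointwise_smul b (MulAut.conj α) _ (hT hb)
  obtain ⟨g, hg⟩ := h
  obtain ⟨e, he, h⟩ := exists_wd le_rfl g.2
  exact ⟨e, he, hg ▸ (show (g : Pm) = el e from h) ▸ hf g⟩

end Cfsg.Agent.TwoF.XL.U43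

private theorem dce_94c1e1d172fd : _root_.True := by
  try have : _root_.True := by simp only [_root_.Cfsg.Agent.TwoF.XL.U43.dst.eq_def]
  try have : _root_.True := by simp only [_root_.Cfsg.Agent.TwoF.XL.U43.dst.eq_1]
  try have : _root_.True := by simp only [_root_.Cfsg.Agent.TwoF.XL.U43.wd.eq_1]
  try have : _root_.True := by simp only [_root_.Cfsg.Agent.TwoF.XL.U43.sP.eq_1]
  try have : _root_.True := by simp only [_root_.Cfsg.Agent.TwoF.XL.U43.wd.eq_def]
  try have : _root_.True := by simp only [_root_.Cfsg.Agent.TwoF.XL.U43.dst.eq_2]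
  try have : _root_.True := by simp only [_root_.Cfsg.Agent.TwoF.XL.U43.cde.eq_1]
  try have : _root_.True := by simp only [_root_.Cfsg.Agent.TwoF.XL.U43.top.eq_1]
  try have : _root_.True := by simp only [_root_.Cfsg.Agent.TwoF.XL.U43.wd.eq_2]
  try have : _root_.True := by simp only [_root_.Cfsg.Agent.TwoF.XL.U43.el.eq_1]
  exact _root_.True.intro
end
end
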